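import Groth.Agent.UnipFixLib.Basic
import Groth.Agent.ObsLib.Bridge
import Groth.Agent.GenSubLib.Isogeny
import Groth.Agent.S7986
import Mathlib.GroupTheory.Nilpotent

/-! Over an algebraically closed field a connected affine smooth group without subtorus is solvable. -/

set_option linter.all false
set_option autoImplicit false
set_option backward.isDefEq.respectTransparency false
set_option backward.isDefEq.respectTransparency.types false
universe u
open CategoryTheory MonoidalCategory CartesianMonoidalCategory MonObj AlgebraicGeometry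
open scoped TensorProduct

namespace Groth.Agent.UnipSolv

open Groth.Agent.ObsLib

variable {k : Type u} [Field k] [IsAlgClosed k]

theorem isUnipotent_chart {U : Over (Spec (CommRingCat.of k))} [GrpObj U] [IsAffine U.left] [Smooth U.hom]
    [ConnectedSpace U.left] (C : Chart U) (hU : Red.HasNoSubtorus k U) : HopfRep.IsUnipotent k C.A := by
  intro V _ _ c hfin hnt hbot
  obtain ⟨ρ, hρ⟩ := exists_gmod C c
  obtain ⟨v₀, hv₀⟩ := exists_ne (0 : V)
  obtain ⟨w, -, hw0, hw⟩ := UnipFix.exists_fixed ρ hU ⊤ (fun _ _ _ => trivial) (v₀ := v₀) trivial hv₀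
  refine hw0 ?_
  have h := hw C.A (C.pt (AlgHom.id k C.A))
  rw [Category.comp_id, hρ] at h
  have h' : c.coact w = w ⊗ₜ[k] (1 : C.A) := by
    have h2 := (TensorProduct.comm k V C.A).injective (h.trans (TensorProduct.comm_tmul _ _ _ _ _).symm)
    rwa [AlgHom.toLinearMap_id, LinearMap.lTensor_id, LinearMap.id_apply] at h2
  have hm : w ∈ HopfRep.fixedPts k C.A V := h'
  rwa [hbot, Submodule.mem_bot] at hm

theorem isSolvableGrp_of_hasNoSubtorus {U : Over (Spec (CommRingCat.of k))} [GrpObj U] [IsAffine U.left]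
    [Smooth U.hom] [ConnectedSpace U.left] (hU : Red.HasNoSubtorus k U) : Red.IsSolvableGrp U := by
  obtain ⟨C⟩ := nonempty_chart U
  haveI : LocallyOfFiniteType U.hom := inferInstance
  haveI := finiteType_chart C
  haveI := Groth.Agent.S7986.result k C.A (isUnipotent_chart C hU)
  let f : WithConv (C.A →ₐ[k] k) →* (VecGrp.pt k k ⟶ U) :=
    (IsMonHom.monoidHom C.e.hom (VecGrp.pt k k)).comp GModComod.pts.toMonoidHom
  have hf : Function.Surjective f := fun x => by
    obtain ⟨φ, hφ⟩ := (pt_bijective C).2 x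
    exact ⟨WithConv.toConv φ, hφ⟩
  haveI : Group.IsSolvable (VecGrp.pt k k ⟶ U) := Group.isSolvable_of_surjective hf
  let e : 𝟙_ (Over (Spec (CommRingCat.of k))) ⟶ VecGrp.pt k k :=
    Over.homMk (𝟙 _) (by
      show 𝟙 _ ≫ Spec.map (CommRingCat.ofHom (algebraMap k k)) = 𝟙 _
      simp)
  haveI : Mono (Over.homMk (U := 𝟙_ (Over (Spec (CommRingCat.of k)))) (V := VecGrp.pt k k) e.left (Over.w e)) :=
    Over.mono_of_mono_left _
  let e' : VecGrp.pt k k ⟶ 𝟙_ (Over (Spec (CommRingCat.of k))) := toUnit _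
  let g : (VecGrp.pt k k ⟶ U) →* (𝟙_ (Over (Spec (CommRingCat.of k))) ⟶ U) :=
    MonoidHom.mk' (fun x => e ≫ x) (fun a b => MonObj.comp_mul _ _ _)
  have hg : Function.Surjective g := fun x => ⟨e' ≫ x, by
    show e ≫ e' ≫ x = x
    rw [← Category.assoc, toUnit_unique (e ≫ e') (𝟙 _), Category.id_comp]⟩
  haveI : Group.IsSolvable (𝟙_ (Over (Spec (CommRingCat.of k))) ⟶ U) := Group.isSolvable_of_surjective hg
  obtain ⟨n, hn⟩ := Group.IsSolvable.solvable (G := 𝟙_ (Over (Spec (CommRingCat.of k))) ⟶ U)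
  exact GenSubLib.isSolvableGrp_of_pts hn

end Groth.Agent.UnipSolv
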