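import Groth.Agent.GenSubLib.Isogeny
import Groth.Agent.GenSubLib.Largest
import Mathlib.GroupTheory.Solvable

/-! Two solvable subgroups, one normalising the other, lie in a solvable one. -/

set_option linter.all false
set_option autoImplicit false
set_option backward.isDefEq.respectTransparency false
set_option backward.isDefEq.respectTransparency.types false
universe u
open CategoryTheory MonoidalCategory CartesianMonoidalCategory MonObj GrpObj AlgebraicGeometry CategoryTheory.Limits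

namespace Groth.Agent.UnipSolv

section Join

open GenSubLib

variable {k : Type u} [Field k] [IsAlgClosed k] {G A B : Over (Spec (CommRingCat.of k))} [GrpObj G] [GrpObj A] [GrpObj B]
  [LocallyOfFiniteType G.hom] [QuasiCompact G.hom]

/-- Two smooth connected solvable subgroups, one normalising the other, lie in a third one. -/
theorem exists_solvable_join (a : A ⟶ G) [IsMonHom a] [IsClosedImmersion a.left] (b : B ⟶ G) [IsMonHom b]
    [IsClosedImmersion b.left] [Smooth A.hom] [Smooth B.hom] [ConnectedSpace A.left] [ConnectedSpace B.left]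
    (hA : Red.IsSolvableGrp A) (hB : Red.IsSolvableGrp B)
    (hN : ∀ (T : Over (Spec (CommRingCat.of k))) (y : T ⟶ B) (x : T ⟶ A),
      ∃ x' : T ⟶ A, (y ≫ b) * (x ≫ a) * (y ≫ b)⁻¹ = x' ≫ a) :
    ∃ (M : Over (Spec (CommRingCat.of k))) (_ : GrpObj M) (m : M ⟶ G) (a' : A ⟶ M) (b' : B ⟶ M),
      IsMonHom m ∧ IsClosedImmersion m.left ∧ Smooth M.hom ∧ ConnectedSpace M.left ∧ Red.IsSolvableGrp M ∧
      a' ≫ m = a ∧ b' ≫ m = b := by
  haveI : QuasiCompact A.hom := by rw [← Over.w a]; infer_instance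
  haveI : QuasiCompact B.hom := by rw [← Over.w b]; infer_instance
  haveI : ∀ j, GeometricallyReduced (pairSrc A B j).hom := by
    rintro ⟨⟩
    · exact AVLib.geometricallyReduced_of_smooth B.hom
    · exact AVLib.geometricallyReduced_of_smooth A.hom
  haveI : ∀ j, GeometricallyConnected (pairSrc A B j).hom := by
    rintro ⟨⟩
    · exact geometricallyConnected_of_rational η[B]
    · exact geometricallyConnected_of_rational η[A]
  obtain ⟨M, hM, m, hm, hmc, -, hgr, hrange, hf, -, hmin⟩ := exists_generated (pairMap a b)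
  letI := hM
  haveI := hm
  haveI := hmc
  haveI := hgr
  obtain ⟨a', ha'⟩ := hf true
  obtain ⟨b', hb'⟩ := hf false
  haveI : LocallyOfFiniteType M.hom := by rw [← Over.w m]; infer_instance
  haveI : Smooth M.hom := @smooth_of_grpObj _ _ _ M.hom ‹LocallyOfFiniteType M.hom› hM hgr
  haveI : ConnectedSpace M.left := by
    let x : ∀ j, 𝟙_ (Over (Spec (CommRingCat.of k))) ⟶ pairSrc A B j
      | true => η[A]
      | false => η[B]
    have h := (isConnected_wordSet (pairMap a b) x (by rintro ⟨⟩; exacts [IsMonHom.one_hom b, IsMonHom.one_hom a])).closure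
    rw [← hrange, ← Set.image_univ] at h
    rw [connectedSpace_iff_univ]
    exact ⟨⟨η[M].left (IsLocalRing.closedPoint k), trivial⟩,
      m.left.isClosedEmbedding.isInducing.isPreconnected_image.1 h.isPreconnected⟩
  haveI : Mono m := Over.mono_of_mono_left m
  have hr := (range_of_min a b hN M m ⟨a', ha'⟩ ⟨b', hb'⟩
    fun Γ' h' i' h1 h2 h3 h4 => hmin Γ' h' i' h1 h2 (by rintro ⟨⟩; exacts [h4, h3])).2
  refine ⟨M, hM, m, a', b', hm, hmc, ‹_›, ‹_›, ?_, ha', hb'⟩
  obtain ⟨nA, hnA⟩ := hA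
  obtain ⟨nB, hnB⟩ := hB
  haveI : IsMonHom a' :=
    ⟨by rw [← cancel_mono m, Category.assoc, ha', IsMonHom.one_hom a, IsMonHom.one_hom m],
      by rw [← cancel_mono m, Category.assoc, ha', IsMonHom.mul_hom a, Category.assoc, IsMonHom.mul_hom m,
        MonoidalCategory.tensorHom_comp_tensorHom_assoc, ha']⟩
  haveI : IsMonHom b' :=
    ⟨by rw [← cancel_mono m, Category.assoc, hb', IsMonHom.one_hom b, IsMonHom.one_hom m],
      by rw [← cancel_mono m, Category.assoc, hb', IsMonHom.mul_hom b, Category.assoc, IsMonHom.mul_hom m,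
        MonoidalCategory.tensorHom_comp_tensorHom_assoc, hb']⟩
  haveI : LocallyOfFiniteType (A ⊗ B).hom := by rw [Over.tensorObj_hom]; infer_instance
  have hdec : ∀ g : 𝟙_ (Over (Spec (CommRingCat.of k))) ⟶ M, ∃ x y, g = (x ≫ a') * (y ≫ b') := by
    intro g
    have h1 : (g ≫ m).left base₀ ∈ Set.range ((a ⊗ₘ b) ≫ μ[G]).left := hr ▸ ⟨g.left base₀, rfl⟩
    obtain ⟨w, hw⟩ := exists_pt_lift ((a ⊗ₘ b) ≫ μ[G]) (g ≫ m) h1
    obtain ⟨x, y, hxy⟩ := (isProd_iff_exists a b (g ≫ m)).2 ⟨w, hw⟩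
    refine ⟨x, y, (cancel_mono m).1 ?_⟩
    rw [hxy, MonObj.mul_comp, Category.assoc, Category.assoc, ha', hb']
  let fA := ptsHom a'
  let fB := ptsHom b'
  haveI : fA.range.Normal := by
    refine ⟨?_⟩
    rintro _ ⟨x, rfl⟩ g
    obtain ⟨x₁, y, rfl⟩ := hdec g
    obtain ⟨x', hx'⟩ := hN _ y x
    refine ⟨x₁ * x' * x₁⁻¹, (cancel_mono m).1 ?_⟩
    show ((x₁ * x' * x₁⁻¹) ≫ a') ≫ m = ((x₁ ≫ a') * (y ≫ b') * (x ≫ a') * ((x₁ ≫ a') * (y ≫ b'))⁻¹) ≫ m
    simp only [MonObj.mul_comp, GrpObj.inv_comp, Category.assoc, ha', hb']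
    rw [← hx']
    group
  haveI : Group.IsSolvable (𝟙_ (Over (Spec (CommRingCat.of k))) ⟶ A) := ⟨⟨nA, hnA _⟩⟩
  haveI : Group.IsSolvable (𝟙_ (Over (Spec (CommRingCat.of k))) ⟶ B) := ⟨⟨nB, hnB _⟩⟩
  haveI : Group.IsSolvable fA.range := Group.isSolvable_of_surjective fA.rangeRestrict_surjective
  haveI : Group.IsSolvable (_ ⧸ fA.range) := by
    refine Group.isSolvable_of_surjective (f := (QuotientGroup.mk' fA.range).comp fB) fun q => ?_
    obtain ⟨g, rfl⟩ := QuotientGroup.mk'_surjective fA.range q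
    obtain ⟨x, y, rfl⟩ := hdec g
    refine ⟨y, ?_⟩
    rw [MonoidHom.comp_apply, map_mul, (QuotientGroup.eq_one_iff (x ≫ a')).2 ⟨x, rfl⟩ |> fun h =>
      (show QuotientGroup.mk' fA.range (x ≫ a') = 1 from h), _root_.one_mul]
    rfl
  obtain ⟨n, hn⟩ := ((Group.isSolvable_iff_subgroup_quotient fA.range).2 ⟨inferInstance, inferInstance⟩).solvable
  exact isSolvableGrp_of_pts hn

end Join

end Groth.Agent.UnipSolv
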